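import Groth.Agent.QCart13.Sub
import Groth.Agent.AlgSpPts.SepDescent

/-!
# The submodule of sections supported on a closed set with quasi-compact complement
-/

set_option autoImplicit false
set_option backward.isDefEq.respectTransparency false
set_option backward.isDefEq.respectTransparency.types false

noncomputable section

universe u

open CategoryTheory CategoryTheory.Limits AlgebraicGeometry Opposite AlgSp TensorProduct
open Groth.Agent.QCart13

namespace Groth.Agent.SuppSub13

/-- Multiplication by finitely many elements. -/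
def mulPi {R : Type*} [CommRing R] (M : Type*) [AddCommGroup M] [Module R M] {n : ℕ} (b : Fin n → R) :
    M →ₗ[R] (Fin n → M) :=
  LinearMap.pi fun i => LinearMap.lsmul R M (b i)

theorem exists_ker_tensor {R A M N : Type*} [CommRing R] [CommRing A] [Algebra R A] [Module.Flat R A]
    [AddCommGroup M] [Module R M] [AddCommGroup N] [Module A N] (β : A ⊗[R] M →ₗ[A] N) (hβ : Function.Bijective β)
    {n : ℕ} (b : Fin n → R) (s : N) (hs : ∀ i, algebraMap R A (b i) • s = 0) :
    ∃ w : A ⊗[R] LinearMap.ker (mulPi M b), β ((LinearMap.ker (mulPi M b)).subtype.lTensor A w) = s := by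
  obtain ⟨z, hz⟩ := hβ.2 s
  have key : ∀ (i : Fin n) (z : A ⊗[R] M),
      piRight R R A (fun _ : Fin n => M) ((mulPi M b).lTensor A z) i = algebraMap R A (b i) • z := by
    intro i z
    induction z using TensorProduct.induction_on with
    | zero => simp
    | add x y hx hy => simp only [map_add, Pi.add_apply, smul_add, hx, hy]
    | tmul c m =>
      rw [LinearMap.lTensor_tmul, piRight_apply, piRightHom_tmul, TensorProduct.smul_tmul', smul_eq_mul,
        ← Algebra.smul_def, TensorProduct.smul_tmul]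
      rfl
  have h0 : (mulPi M b).lTensor A z = 0 := by
    refine (piRight R R A fun _ : Fin n => M).injective (funext fun i => hβ.1 ?_)
    rw [map_zero, Pi.zero_apply, map_zero, key, map_smul, hz, hs]
  obtain ⟨w, hw⟩ := ((Module.Flat.lTensor_exact A (LinearMap.exact_subtype_ker_map (mulPi M b))) z).1 h0
  exact ⟨w, by rw [hw, hz]⟩

/-- Zero loci on affine schemes see radicals. -/
theorem mem_radical_of_zeroLocus {X : Scheme.{u}} [IsAffine X] (A : Ideal Γ(X, ⊤)) (a : Γ(X, ⊤))
    (h : ∀ x ∈ X.zeroLocus (U := ⊤) (A : Set Γ(X, ⊤)), x ∉ X.basicOpen a) : a ∈ A.radical := by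
  rw [← PrimeSpectrum.vanishingIdeal_zeroLocus_eq_radical, PrimeSpectrum.mem_vanishingIdeal]
  intro p hp
  have h' : X.zeroLocus (U := ⊤) (A : Set Γ(X, ⊤)) ⊆ X.zeroLocus (U := ⊤) {a} := fun x hx => by
    rw [Scheme.mem_zeroLocus_iff]
    intro f hf
    rw [Set.mem_singleton_iff] at hf
    subst hf
    exact h x hx
  have h'' := Set.image_mono (f := X.isoSpec.hom) h'
  rw [X.isoSpec_image_zeroLocus, X.isoSpec_image_zeroLocus] at h''
  exact (h'' hp) rfl

variable {S : Scheme.{u}} {X : Sp S} (T : Set (Points X))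

/-- The points of an object over the set. -/
def above (W : EtOver X) : Set ↥W.obj.left.left := {w | Points.ofPt W.obj.hom w ∈ T}

theorem mem_above_iff {V W : EtOver X} (g : V ⟶ W) (v : ↥V.obj.left.left) :
    v ∈ above T V ↔ g.hom.left.left v ∈ above T W := by
  change Points.ofPt V.obj.hom v ∈ T ↔ Points.ofPt W.obj.hom (g.hom.left.left v) ∈ T
  rw [← AlgSpLib.ofPt_comp, show (yon S).map g.hom.left ≫ W.obj.hom = V.obj.hom from CategoryTheory.CostructuredArrow.w g.hom]

/-- The sets cut out by finitely generated ideals on all affine objects. -/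
def FGCut : Prop := ∀ W : EtOver X, Aff W → ∃ I : Ideal (Fn W), I.FG ∧
  W.obj.left.left.zeroLocus (U := ⊤) (I : Set (Fn W)) = above T W

variable (F : ModEt X)

/-- Support in the set. -/
def Supp {W : EtOver X} (x : sectModEt F W) : Prop :=
  W.obj.left.left.zeroLocus (U := ⊤) ((annSect x : Ideal (Fn W)) : Set (Fn W)) ⊆ above T W

theorem mem_ann {W : EtOver X} (x : sectModEt F W) (a : Fn W) : a ∈ annSect x ↔ a • x = 0 := mem_annSect_iff x a

theorem supp_res {W V : EtOver X} (g : V ⟶ W) {x : sectModEt F W} (h : Supp T F x) : Supp T F (res F g x) := by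
  intro v hv
  rw [mem_above_iff T g]
  refine h ((Scheme.mem_zeroLocus_iff _ _ _).2 fun a ha hw => ?_)
  refine (Scheme.mem_zeroLocus_iff _ _ _).1 hv (rmap g a) ?_ ?_
  · rw [SetLike.mem_coe, mem_ann, ← res_smul, (mem_ann F x a).1 ha, map_zero]
  · have := Scheme.preimage_basicOpen_top g.hom.left.left a
    exact this.le hw

/-- The submodule of sections supported in the set on all affine objects. -/
def suppPre : F.val.Submodule where
  obj W :=
    { carrier := {x | ∀ (V : EtOver X) (g : V ⟶ W.unop), Aff V → Supp T F (res F g (x : sectModEt F W.unop))}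
      zero_mem' := fun V g _ v hv => by
        have := (Scheme.mem_zeroLocus_iff _ _ _).1 hv 1 (by rw [SetLike.mem_coe, mem_ann, map_zero, smul_zero])
        exact absurd (by rw [Scheme.basicOpen_of_isUnit _ isUnit_one]; trivial) this
      add_mem' := fun {x y} hx hy V g hV v hv => by
        by_contra h
        have hx' := mt (hx V g hV (a := v)) h
        have hy' := mt (hy V g hV (a := v)) h
        rw [Scheme.mem_zeroLocus_iff] at hx' hy'
        push Not at hx' hy'
        obtain ⟨a, ha, hva⟩ := hx'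
        obtain ⟨b, hb, hvb⟩ := hy'
        refine (Scheme.mem_zeroLocus_iff _ _ _).1 hv (a * b) ?_ ?_
        · rw [SetLike.mem_coe, mem_ann, map_add, smul_add, mul_smul, mul_smul, (mem_ann F _ b).1 hb, smul_comm,
            (mem_ann F _ a).1 ha, smul_zero, smul_zero, add_zero]
        · rw [Scheme.basicOpen_mul]
          exact ⟨hva, hvb⟩
      smul_mem' := fun r x hx V g hV v hv => hx V g hV (Scheme.zeroLocus_mono _ (fun a ha => by
        rw [SetLike.mem_coe, mem_ann] at ha ⊢
        have h : res F g (r • x : F.val.obj W) = rmap g r.down • res F g (x : sectModEt F W.unop) :=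
          res_smul F g r.down (x : sectModEt F W.unop)
        rw [h, smul_comm, ha, smul_zero]) hv) }
  map {W V} f x hx U g hU := by
    change Supp T F (res F g (res F f.unop (x : sectModEt F W.unop)))
    rw [← res_comp]
    exact hx U (g ≫ f.unop) hU

variable {T} (hT : FGCut T)

theorem mem_radical_of_supp {W : EtOver X} (hW : Aff W) {x : sectModEt F W} (hx : Supp T F x)
    {I : Ideal (Fn W)} (hI : W.obj.left.left.zeroLocus (U := ⊤) (I : Set (Fn W)) = above T W) :
    I ≤ (annSect x).radical := fun a ha =>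
  haveI : IsAffine W.obj.left.left := hW
  mem_radical_of_zeroLocus _ a fun w hw => by
    have := hx hw
    rw [← hI] at this
    exact (Scheme.mem_zeroLocus_iff _ _ _).1 this a ha

theorem exists_pow_smul_res {W V : EtOver X} (g : V ⟶ W) (hV : Aff V)
    {I : Ideal (Fn W)} (hI : W.obj.left.left.zeroLocus (U := ⊤) (I : Set (Fn W)) = above T W)
    {a : Fn W} (ha : a ∈ I) {y : sectModEt F V} (hy : Supp T F y) : ∃ n : ℕ, rmap g a ^ n • y = 0 := by
  haveI : IsAffine V.obj.left.left := hV
  obtain ⟨n, hn⟩ := mem_radical_of_zeroLocus (annSect y) (rmap g a) fun v hv hva => by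
    have := (mem_above_iff T g v).1 (hy hv)
    rw [← hI] at this
    exact (Scheme.mem_zeroLocus_iff _ _ _).1 this a ha ((Scheme.preimage_basicOpen_top g.hom.left.left a).ge hva)
  exact ⟨n, (mem_ann F y _).1 hn⟩

include hT in
theorem mem_sat_iff {W : EtOver X} (hW : Aff W) (x : sectModEt F W) :
    x ∈ (Gen.sat (suppPre T F)).obj (op W) ↔ Supp T F x := by
  refine ⟨fun hx => ?_, fun h => Gen.le_sat _ fun V g _ => supp_res T F g h⟩
  obtain ⟨I, -, hI⟩ := hT W hW
  obtain ⟨c, hc⟩ := exists_cov hW hx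
  intro w hw
  rw [← hI, Scheme.mem_zeroLocus_iff]
  intro a ha hwa
  have key : ∀ k, ∃ n : ℕ, rmap (c.T k).hom a ^ n • res F (c.T k).hom x = 0 := fun k => by
    have h := hc k (c.T k).left (𝟙 _) (c.aff k)
    exact exists_pow_smul_res F (c.T k).hom (c.aff k) hI ha ((res_id F _ _) ▸ h :)
  choose n hn using key
  have hN : a ^ (Finset.univ.sum n + 1) • x = 0 := c.ext F fun k => by
    obtain ⟨r, hr⟩ := Nat.exists_eq_add_of_le
      ((Finset.single_le_sum (f := n) (fun i _ => Nat.zero_le (n i)) (Finset.mem_univ k)).trans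
        (Nat.le_add_right _ 1))
    rw [res_smul, map_pow, hr, pow_add, mul_comm, mul_smul, hn k, smul_zero]
  refine (Scheme.mem_zeroLocus_iff _ _ _).1 hw (a ^ (Finset.univ.sum n + 1)) ((mem_ann F x _).2 hN) ?_
  exact (Scheme.basicOpen_pow _ _ (Nat.succ_pos _)).ge hwa

include hT in
theorem supp_of_pow {W : EtOver X} {x : sectModEt F W} {s : Set (Fn W)}
    (hs : W.obj.left.left.zeroLocus (U := ⊤) s = above T W) (h : ∀ a ∈ s, ∃ n : ℕ, 0 < n ∧ a ^ n • x = 0) :
    Supp T F x := fun w hw => by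
  rw [← hs, Scheme.mem_zeroLocus_iff]
  intro a ha hwa
  obtain ⟨n, hn, hn'⟩ := h a ha
  refine (Scheme.mem_zeroLocus_iff _ _ _).1 hw (a ^ n) ((mem_ann F x _).2 hn') ?_
  exact (Scheme.basicOpen_pow _ _ hn).ge hwa

theorem appL_bcMor_lTensor {K : ModEt X} (κ : K ⟶ F) {E : EtOver X} (U : Over E) {N : Type (u + 1)} [AddCommGroup N]
    [Module (Fn E) N] (L : N →ₗ[Fn E] sectModEt K E) (ι : N →ₗ[Fn E] sectModEt F E) (hL : appL κ E ∘ₗ L = ι)
    (w : Fn U.left ⊗[Fn E] N) : appL κ U.left (bcMor K U (L.lTensor _ w)) = bcMor F U (ι.lTensor _ w) := by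
  rw [appL_bcMor, ← hL, LinearMap.lTensor_comp, LinearMap.comp_apply]

include hT in
theorem exists_pows {E : EtOver X} (U : Over E) (hU : Aff U.left) {n : ℕ} (a : Fin n → Fn E)
    (ha : E.obj.left.left.zeroLocus (U := ⊤) (Set.range a) = above T E) (s : sectModEt F U.left)
    (hs : Supp T F s) : ∃ N : ℕ, 0 < N ∧ ∀ i, rmap U.hom (a i ^ N) • s = 0 := by
  have hI : E.obj.left.left.zeroLocus (U := ⊤) ((Ideal.span (Set.range a) : Ideal (Fn E)) : Set (Fn E)) = above T E :=
    (Scheme.zeroLocus_span _ _).trans ha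
  choose e he using fun i => exists_pow_smul_res F U.hom hU hI (Submodule.subset_span (⟨i, rfl⟩ : a i ∈ Set.range a)) hs
  refine ⟨Finset.univ.sum e + 1, Nat.succ_pos _, fun i => ?_⟩
  obtain ⟨r, hr⟩ := Nat.exists_eq_add_of_le (((Finset.single_le_sum (f := e) (fun i _ => Nat.zero_le (e i))
    (Finset.mem_univ i)).trans (Nat.le_add_right _ 1)))
  rw [map_pow, hr, pow_add, mul_comm, mul_smul, he i, smul_zero]

include hT in
theorem isQuasicoherent_supp [F.IsQuasicoherent] : (Gen.satSheaf (suppPre T F)).IsQuasicoherent := by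
  haveI := Gen.mono_satι (suppPre T F)
  refine isQuasicoherent_of_cart _ fun E hE => cart_of_mono (Gen.satι (suppPre T F)) hE
    (cart_of_isQuasicoherent F hE) fun U hU s => ⟨⊤, (etTop X).top_mem _, fun T' f hT' _ => ?_⟩
  obtain ⟨I, hfg, hI⟩ := hT E hE
  obtain ⟨n, a, rfl⟩ := Submodule.fg_iff_exists_fin_generating_family.1 hfg
  have ha : E.obj.left.left.zeroLocus (U := ⊤) (Set.range a) = above T E :=
    (Scheme.zeroLocus_span _ _).symm.trans hI
  have hsupp : Supp T F (appL (Gen.satι (suppPre T F)) T'.left (res (Gen.satSheaf (suppPre T F)) f.left s)) :=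
    (mem_sat_iff F hT hT' _).1 (res (Gen.satSheaf (suppPre T F)) f.left s).2
  obtain ⟨N, hN0, hN⟩ := exists_pows F hT T' hT' a ha _ hsupp
  haveI : Module.Flat (Fn E) (Fn T'.left) := flat_over hE hT'
  obtain ⟨w, hw⟩ := exists_ker_tensor (bcMor F T') (bijective_bcMor (cart_of_isQuasicoherent F hE) T' hT') (fun i => a i ^ N) _ hN
  have hmem : ∀ y : LinearMap.ker (mulPi (sectModEt F E) fun i => a i ^ N),
      (y.1 : sectModEt F E) ∈ (Gen.sat (suppPre T F)).obj (op E) := fun y =>
    (mem_sat_iff F hT hE _).2 (supp_of_pow F hT ha (by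
      rintro _ ⟨i, rfl⟩
      exact ⟨N, hN0, congrFun y.2 i⟩))
  let L : LinearMap.ker (mulPi (sectModEt F E) fun i => a i ^ N) →ₗ[Fn E] sectModEt (Gen.satSheaf (suppPre T F)) E :=
    { toFun := fun y => ⟨y.1, hmem y⟩
      map_add' := fun _ _ => rfl
      map_smul' := fun _ _ => rfl }
  refine ⟨L.lTensor _ w, injective_appL (Gen.satι (suppPre T F)) _ ?_⟩
  exact (appL_bcMor_lTensor F (Gen.satι (suppPre T F)) T' L _ (LinearMap.ext fun _ => rfl) w).trans hw

include hT in
theorem range_supp {W : EtOver X} (hW : Aff W) :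
    Set.range ((Gen.satι (suppPre T F)).val.app (op W)).hom = {x : sectModEt F W | Supp T F x} := by
  ext s
  refine ⟨fun ⟨y, hy⟩ => ?_, fun h => ⟨⟨s, (mem_sat_iff F hT hW s).2 h⟩, rfl⟩⟩
  subst hy
  exact (mem_sat_iff F hT hW y.1).1 y.2

theorem supp_iff_pow {W : EtOver X} (hW : Aff W) (x : sectModEt F W) {I : Ideal (Fn W)} (hfg : I.FG)
    (hI : W.obj.left.left.zeroLocus (U := ⊤) (I : Set (Fn W)) = above T W) :
    Supp T F x ↔ ∃ n : ℕ, ∀ a ∈ I ^ n, a • x = 0 := by
  constructor
  · intro h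
    obtain ⟨n, hn⟩ := Ideal.exists_pow_le_of_le_radical_of_fg (mem_radical_of_supp F hW h hI) hfg
    exact ⟨n, fun a ha => (mem_ann F x a).1 (hn ha)⟩
  · rintro ⟨n, hn⟩ w hw
    rw [← hI, Scheme.mem_zeroLocus_iff]
    intro a ha hwa
    refine (Scheme.mem_zeroLocus_iff _ _ _).1 hw (a ^ (n + 1))
      ((mem_ann F x _).2 (hn _ (Ideal.pow_le_pow_right (Nat.le_succ n) (Ideal.pow_mem_pow ha _)))) ?_
    exact (Scheme.basicOpen_pow _ _ (Nat.succ_pos _)).ge hwa

omit F in
theorem fgCut_of_open {U : Sp S} (j : U ⟶ X) (hj : RepWith @IsOpenImmersion j) (hjqc : IsQuasiCompactMor j)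
    (hTdef : T = (Set.range (Points.map j))ᶜ) : FGCut T := by
  intro W hW
  haveI : IsAffine W.obj.left.left := hW
  let P := hj.rep.pullback W.obj.hom
  let q : P ⟶ W.obj.left := hj.rep.snd W.obj.hom
  haveI : IsOpenImmersion q.left := hj.property_snd W.obj.hom
  haveI : QuasiCompact q.left := (AlgSpPts.repWith_quasiCompact hj.1 hjqc).property_snd W.obj.hom
  have hrange : (above T W)ᶜ = Set.range q.left := by
    ext w
    change ¬ Points.ofPt W.obj.hom w ∈ T ↔ _
    rw [hTdef, Set.mem_compl_iff, not_not]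
    constructor
    · rintro ⟨x, hx⟩
      obtain ⟨z, -, hz⟩ := AlgSpLib.exists_point_of_isPullback (hj.rep.isPullback W.obj.hom) (x := x)
        (y := Points.ofPt (𝟙 _) w) (hx.trans (by rw [Points.map_ofPt, Category.id_comp]))
      refine ⟨Points.toScheme P z, ?_⟩
      rw [← Points.ofScheme_toScheme P z, ← Points.ofPt_eq_map_ofScheme, ← (yon S).map_id] at hz
      have := congrArg (Points.toScheme W.obj.left) hz
      rw [Points.toScheme_ofPt, Points.toScheme_ofPt] at this
      exact this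
    · rintro ⟨v, rfl⟩
      refine ⟨Points.ofPt (hj.rep.fst W.obj.hom) v, ?_⟩
      rw [Points.map_ofPt, hj.rep.w, AlgSpLib.ofPt_comp]
  haveI : CompactSpace ↥P.left := (quasiCompact_iff_compactSpace q.left).1 inferInstance
  obtain ⟨s, hs, hs'⟩ := isCompact_and_isOpen_iff_finite_and_eq_biUnion_basicOpen.1
    ⟨isCompact_range q.left.continuous, q.left.isOpenEmbedding.isOpen_range⟩
  refine ⟨Ideal.span s, ⟨hs.toFinset, by rw [Set.Finite.coe_toFinset]⟩, ?_⟩
  rw [Scheme.zeroLocus_span, ← compl_inj_iff, hrange, hs', Scheme.zeroLocus_def, Set.compl_iInter₂]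
  simp only [TopologicalSpace.Opens.carrier_eq_coe, compl_compl]

end Groth.Agent.SuppSub13

end
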